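import Cfsg.Agent.Lib.CT.PrimClassSize.FixBound
import Cfsg.Agent.Lib.CT.Chief
import Cfsg.Agent.Lib.CT.Integral
import Cfsg.Agent.Lib.Basics.Cores

/-!
# Class sizes and faithful quasi-primitive characters of metanilpotent groups
-/

set_option autoImplicit false
set_option linter.unusedSectionVars false
set_option linter.style.haveILetI false

namespace Cfsg.Agent.PrimClassSize

open Cfsg.Agent.CT

open scoped ComplexConjugate

universe u

variable {G : Type u} [Group G] [Fintype G]

/-- Homogeneous restrictions through a nilpotent quotient are irreducible. -/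
theorem eq_one_of_qp {χ : G → ℂ} (hχ : IsIrrCharacter G χ) :
    ∀ (n : ℕ) (N : Subgroup G) [N.Normal] [Fintype N], N.index ≤ n → Group.IsNilpotent (G ⧸ N) →
      QuasiPrimAbove N χ → ∀ {φ : N → ℂ} {e : ℕ}, IsIrrCharacter N φ →
        (fun x : N => χ x) = (e : ℂ) • φ → e = 1 := by
  intro n
  induction n using Nat.strong_induction_on with
  | _ n ih =>
    intro N _ _ hn hnil hqp φ e hφ he
    classical
    haveI := hnil
    rcases eq_or_ne N ⊤ with rfl | hne
    · have h1 : classInner (fun x : (⊤ : Subgroup G) => χ x) (fun x : (⊤ : Subgroup G) => χ x) = 1 :=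
        irr_inner_self (isIrrCharacter_comp (⊤ : Subgroup G).subtype
          (fun g => ⟨⟨g, trivial⟩, rfl⟩) hχ)
      rw [he, classInner_smul_left, classInner_smul_right, irr_inner_self hφ, map_natCast,
        mul_one] at h1
      have h2 : e * e = 1 := by exact_mod_cast h1
      exact Nat.eq_one_of_mul_eq_one_right h2
    · haveI : Nontrivial (G ⧸ N) := QuotientGroup.nontrivial_iff.mpr hne
      have hc : Subgroup.center (G ⧸ N) ≠ ⊥ := Group.IsNilpotent.center_ne_bot _
      obtain ⟨r, hr, hrdvd⟩ := Nat.exists_prime_and_dvd fun h => hc (Subgroup.card_eq_one.mp h)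
      haveI := Fact.mk hr
      obtain ⟨z, hz⟩ := exists_prime_orderOf_dvd_card' (G := Subgroup.center (G ⧸ N)) r hrdvd
      let Z' : Subgroup (G ⧸ N) := Subgroup.zpowers (z : G ⧸ N)
      haveI : Z'.Normal := ⟨fun a ha g => by
        have hcen : a ∈ Subgroup.center (G ⧸ N) := Subgroup.zpowers_le.mpr z.2 ha
        rw [Subgroup.mem_center_iff.mp hcen g, mul_inv_cancel_right]
        exact ha⟩
      set Z : Subgroup G := Z'.comap (QuotientGroup.mk' N) with hZdef
      have hNZ : N ≤ Z := fun x hx => by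
        show QuotientGroup.mk' N x ∈ Z'
        rw [show QuotientGroup.mk' N x = 1 from (QuotientGroup.eq_one_iff x).mpr hx]
        exact Z'.one_mem
      have hrel : N.relIndex Z = r := by
        have h := Subgroup.index_comap_of_surjective Z' (QuotientGroup.mk'_surjective N)
        have h1 := Subgroup.relIndex_mul_index hNZ
        have h2 := Subgroup.card_mul_index Z'
        rw [← hZdef] at h
        rw [h, N.index_eq_card, ← h2, Nat.card_zpowers, Subgroup.orderOf_coe, hz] at h1
        exact Nat.eq_of_mul_eq_mul_right (Nat.pos_of_ne_zero Subgroup.index_ne_zero_of_finite) h1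
      have hlt : N < Z := lt_of_le_of_ne hNZ fun h => by
        rw [← h, Subgroup.relIndex_self] at hrel
        exact hr.one_lt.ne hrel
      have hab : ∀ a ∈ Z, ∀ b ∈ Z, a * b * a⁻¹ * b⁻¹ ∈ N := by
        intro a ha b hb
        rw [← QuotientGroup.eq_one_iff]
        obtain ⟨i, hi⟩ := ha
        obtain ⟨j, hj⟩ := hb
        simp only [QuotientGroup.mk'_apply] at hi hj
        rw [QuotientGroup.mk_mul, QuotientGroup.mk_mul, QuotientGroup.mk_mul, QuotientGroup.mk_inv,
          QuotientGroup.mk_inv, ← hi, ← hj]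
        group
      have hchief : ∀ X : Subgroup G, X.Normal → N ≤ X → X ≤ Z → X = N ∨ X = Z := by
        intro X _ hNX hXZ
        rcases hr.eq_one_or_self_of_dvd (N.relIndex X)
          (hrel ▸ ⟨_, (Subgroup.relIndex_mul_relIndex N X Z hNX hXZ).symm⟩) with h | h
        · exact Or.inl (le_antisymm (Subgroup.relIndex_eq_one.mp h) hNX)
        · refine Or.inr (le_antisymm hXZ (Subgroup.relIndex_eq_one.mp ?_))
          have := Subgroup.relIndex_mul_relIndex N X Z hNX hXZ
          rw [h, hrel] at this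
          exact (Nat.mul_eq_left hr.ne_zero).mp this
      haveI := Fintype.ofFinite Z
      obtain ⟨ζ, e', hζ, he'⟩ := hqp Z inferInstance hNZ
      obtain ⟨c, hres, hec⟩ := homogeneous_restrict N Z hNZ hχ hζ he' hφ he
      have hnil' : Group.IsNilpotent (G ⧸ Z) :=
        Group.nilpotent_of_surjective (QuotientGroup.map N Z (MonoidHom.id G) (by simpa using hNZ))
          (by intro x; obtain ⟨g, rfl⟩ := QuotientGroup.mk_surjective x
              exact ⟨QuotientGroup.mk g, rfl⟩)
      have h1 := ih Z.index (lt_of_lt_of_le (Subgroup.index_strictAnti hlt) hn) Z le_rfl hnil'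
        (hqp.mono hNZ) hζ he'
      rcases chief_dichotomy hNZ hab hchief hζ (conjFun_eq_of_homogeneous hχ Z he') hφ c hres
        with h | h
      · rw [hec, h1, h, one_mul]
      · rw [hrel] at h
        exfalso
        rcases hr.eq_one_or_self_of_dvd c (h ▸ dvd_pow_self c two_ne_zero) with rfl | rfl
        · simp at h; exact hr.one_lt.ne h
        · nlinarith [hr.one_lt]

/-- Abelian normal subgroups are central. -/
theorem le_center_of_comm {χ : G → ℂ} (hχ : IsIrrCharacter G χ)
    (hfaith : ∀ g, χ g = χ 1 → g = 1) (hqp : QuasiPrimAbove ⊥ χ) (A : Subgroup G) [A.Normal]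
    (hA : ∀ a ∈ A, ∀ b ∈ A, a * b = b * a) : A ≤ Subgroup.center G := by
  intro a ha
  rw [Subgroup.mem_center_iff]
  intro g
  obtain ⟨φ, e, hφ, he⟩ := hqp A inferInstance bot_le
  obtain ⟨lam, rfl⟩ := exists_hom_of_comm (fun x y => Subtype.ext (hA x x.2 y y.2)) hφ
  have hb : g * a * g⁻¹ ∈ A := Subgroup.Normal.conj_mem inferInstance a ha g
  have h1 := congrFun (conjFun_eq_of_homogeneous hχ A he g) ⟨a, ha⟩
  have h2 : lam ⟨g * a * g⁻¹, hb⟩ = lam ⟨a, ha⟩ := Units.ext h1
  have h3 : χ (g * a * g⁻¹ * a⁻¹) = χ 1 := by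
    have e1 := congrFun he (⟨g * a * g⁻¹, hb⟩ * ⟨a, ha⟩⁻¹)
    have e0 := congrFun he 1
    simp only [Pi.smul_apply, map_mul, map_inv, h2, mul_inv_cancel, map_one] at e1 e0
    exact e1.trans e0.symm
  exact mul_inv_eq_iff_eq_mul.mp (mul_inv_eq_one.mp (hfaith _ h3))

/-- A nilpotent normal subgroup has central commutators. -/
theorem commutator_le_center {χ : G → ℂ} (hχ : IsIrrCharacter G χ)
    (hfaith : ∀ g, χ g = χ 1 → g = 1) (hqp : QuasiPrimAbove ⊥ χ) (F : Subgroup G) [F.Normal]
    [Group.IsNilpotent F] : ⁅F, F⁆ ≤ Subgroup.center G := by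
  obtain ⟨n, hn⟩ := (Subgroup.isNilpotent_iff_lowerCentralSeries F).mp inferInstance
  have key : ∀ i, F.lowerCentralSeries (i + 2) ≤ Subgroup.center G →
      F.lowerCentralSeries (i + 1) ≤ Subgroup.center G := by
    intro i hi
    set L := F.lowerCentralSeries (i + 1) with hL
    have hLF : L ≤ F := F.lowerCentralSeries_le_self _
    have h1 : ⁅⁅L, F⁆, F⁆ = ⊥ := by
      rw [Subgroup.commutator_eq_bot_iff_le_centralizer]
      exact fun x hx => Subgroup.mem_centralizer_iff.mpr fun y _ =>
        Subgroup.mem_center_iff.mp (hi hx) y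
    have h1' : ⁅⁅F, L⁆, F⁆ = ⊥ := by rw [Subgroup.commutator_comm F L]; exact h1
    have h2 : ⁅⁅F, F⁆, L⁆ = ⊥ := Subgroup.commutator_commutator_eq_bot_of_rotate h1' h1
    refine le_center_of_comm hχ hfaith hqp L fun a ha b hb => ?_
    have haF : a ∈ ⁅F, F⁆ := by
      have : L ≤ F.lowerCentralSeries 1 := F.lowerCentralSeries_antitone (by omega)
      simpa using this ha
    have := Subgroup.commutator_eq_bot_iff_le_centralizer.mp h2 haF
    exact (Subgroup.mem_centralizer_iff.mp this b hb).symm
  have hall : ∀ j, F.lowerCentralSeries (j + 1) ≤ Subgroup.center G → F.lowerCentralSeries 1 ≤ Subgroup.center G := by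
    intro j
    induction j with
    | zero => exact id
    | succ j ih => exact fun h => ih (key j h)
  have := hall n (le_trans (F.lowerCentralSeries_antitone (Nat.le_succ n)) (by rw [hn]; exact bot_le))
  simpa using this

/-- The degree squared is the index of the centre in the nilpotent normal subgroup. -/
theorem deg_sq_mul_card {χ : G → ℂ} (hχ : IsIrrCharacter G χ)
    (hfaith : ∀ g, χ g = χ 1 → g = 1) (hqp : QuasiPrimAbove ⊥ χ) (F : Subgroup G) [F.Normal]
    [Group.IsNilpotent F] (hnil : Group.IsNilpotent (G ⧸ F)) :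
    deg χ ^ 2 * Nat.card ↥(F ⊓ Subgroup.center G) = Nat.card F := by
  classical
  obtain ⟨φ, e, hφ, he⟩ := hqp F inferInstance bot_le
  have he1 := eq_one_of_qp hχ F.index F le_rfl hnil (hqp.mono bot_le) hφ he
  subst he1
  rw [Nat.cast_one, one_smul] at he
  subst he
  have hcomm := commutator_le_center hχ hfaith hqp F
  set d := deg χ with hd
  obtain ⟨n, ρ, hρ, rfl⟩ := hχ
  haveI := hρ
  have hχ' : IsIrrCharacter G ρ.character := ⟨n, ρ, hρ, rfl⟩
  have hscal : ∀ z ∈ Subgroup.center G, ∃ ω : ℂ, ‖ω‖ = 1 ∧ (z ≠ 1 → ω ≠ 1) ∧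
      ∀ x, ρ.character (x * z) = ω * ρ.character x := by
    intro z hz
    obtain ⟨ω, hω, hn⟩ := central_scalar ρ hz
    refine ⟨ω, hn, fun hz1 h => hz1 (hfaith z ?_), fun x => ?_⟩
    · refine ((rep_eq_one_iff ρ z).mp ?_)
      rw [hω, h, one_smul]; rfl
    · show LinearMap.trace ℂ _ (ρ (x * z)) = _
      rw [map_mul, hω, mul_smul_comm, map_smul, smul_eq_mul]
      rfl
  have hvan : ∀ z : F, (z : G) ∉ F ⊓ Subgroup.center G → ρ.character (z : G) = 0 := by
    intro x hx
    by_cases hxc : ∀ y ∈ F, (x : G) * y = y * x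
    · exfalso
      refine hx ⟨x.2, le_center_of_comm hχ' hfaith hqp (F ⊓ Subgroup.centralizer (F : Set G))
        (fun a ha b hb => Subgroup.mem_centralizer_iff.mp hb.2 a ha.1) ⟨x.2, ?_⟩⟩
      exact Subgroup.mem_centralizer_iff.mpr fun y hy => (hxc y hy).symm
    · push Not at hxc
      obtain ⟨y, hy, hxy⟩ := hxc
      set z := (x : G)⁻¹ * (y * x * y⁻¹) with hzdef
      have hz : z ∈ Subgroup.center G := by
        have e : z = (x : G)⁻¹ * y * ((x : G)⁻¹)⁻¹ * y⁻¹ := by rw [hzdef]; group
        rw [e]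
        exact hcomm (Subgroup.commutator_mem_commutator (F.inv_mem x.2) hy)
      obtain ⟨ω, -, hω1, hω⟩ := hscal z hz
      have h := hω x
      rw [hzdef, mul_inv_cancel_left, Representation.char_conj] at h
      have hne : ω ≠ 1 := hω1 fun h1 => hxy (by
        rw [hzdef, inv_mul_eq_one] at h1
        exact mul_inv_eq_iff_eq_mul.mp h1.symm |>.symm)
      by_contra h0
      exact hne (mul_right_cancel₀ h0 (by rw [one_mul]; exact h.symm))
  have h1 := classInner_self_eq_sum (fun x : F => ρ.character (x : G))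
  rw [irr_inner_self hφ, mul_one] at h1
  haveI := Fintype.ofFinite ↥(F ⊓ Subgroup.center G)
  rw [sum_eq_sum_subgroup (F ⊓ Subgroup.center G) F inf_le_left
    (fun z : F => ρ.character (z : G) * conj (ρ.character (z : G)))
    (fun z hz => by rw [hvan z hz, zero_mul])] at h1
  have hval : ∀ z : ↥(F ⊓ Subgroup.center G),
      ρ.character (z : G) * conj (ρ.character (z : G)) = (d : ℂ) ^ 2 := by
    intro z
    obtain ⟨ω, hω0, -, hω⟩ := hscal z z.2.2
    have h := hω 1
    rw [one_mul, deg_eq (isCharacter_of_isIrr hχ'), ← hd] at h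
    rw [h, map_mul, map_natCast]
    have hω2 : ω * conj ω = 1 := by
      rw [Complex.mul_conj, Complex.normSq_eq_norm_sq, hω0]; norm_num
    linear_combination (d : ℂ) ^ 2 * hω2
  rw [Finset.sum_congr rfl fun z _ => hval z, Finset.sum_const, Finset.card_univ, nsmul_eq_mul,
    ← Nat.card_eq_fintype_card] at h1
  rw [mul_comm]
  exact_mod_cast h1.symm

end Cfsg.Agent.PrimClassSize
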