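import Mathlib.GroupTheory.Sylow
import Mathlib.GroupTheory.GroupAction.ConjAct
import Mathlib.GroupTheory.Nilpotent

/-!
# A bound for fixed points of a nilpotent group acting coprimely without fixed points
-/

set_option autoImplicit false
set_option linter.unusedSectionVars false
set_option linter.unusedVariables false
set_option linter.style.haveILetI false

namespace Cfsg.Agent.PrimClassSize

universe u

variable {G : Type u} [Group G] [Finite G]

/-- Points of `V` fixed by `s`. -/
def fix (V : Subgroup G) (s : G) : Subgroup G := V ⊓ Subgroup.centralizer {s}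

theorem mem_fix {V : Subgroup G} {s v : G} : v ∈ fix V s ↔ v ∈ V ∧ v * s = s * v := by
  simp [fix, Subgroup.mem_centralizer_singleton_iff]

theorem card_fix_mul_le {V : Subgroup G} (hV : IsMulCommutative V) {s t : G}
    (h : ∀ v ∈ fix V s, v ∈ fix V t → v = 1) :
    Nat.card (fix V s) * Nat.card (fix V t) ≤ Nat.card V := by
  rw [← Nat.card_prod]
  refine Nat.card_le_card_of_injective
    (fun ab : fix V s × fix V t => (⟨(ab.1 : G) * ab.2, V.mul_mem ab.1.2.1 ab.2.2.1⟩ : V)) ?_
  rintro ⟨a, b⟩ ⟨c, d⟩ hab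
  have h1 : (a : G) * b = c * d := congrArg Subtype.val hab
  have h2 : (c : G)⁻¹ * a = d * (b : G)⁻¹ := by
    rw [eq_mul_inv_iff_mul_eq, mul_assoc, h1, inv_mul_cancel_left]
  have h3 : (c : G)⁻¹ * a = 1 := h _ (Subgroup.mul_mem _ (Subgroup.inv_mem _ c.2) a.2)
    (h2 ▸ Subgroup.mul_mem _ d.2 (Subgroup.inv_mem _ b.2))
  have h4 : (a : G) = c := (inv_mul_eq_one.mp h3).symm
  rw [h3, eq_comm, mul_inv_eq_one] at h2
  exact Prod.ext (Subtype.ext h4) (Subtype.ext h2.symm)

theorem exists_central_outside (S : Subgroup G) [Group.IsNilpotent S] (K : Subgroup G)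
    (hK : ∀ s ∈ S, ∀ k ∈ K, s * k * s⁻¹ ∈ K) (hSK : ¬ S ≤ K) :
    ∃ z ∈ S, z ∉ K ∧ ∀ s ∈ S, s * z * s⁻¹ * z⁻¹ ∈ K := by
  obtain ⟨k, hk⟩ := (Subgroup.nilpotent_iff_lowerCentralSeries (G := S)).mp inferInstance
  have hex : ∃ j, ∀ x ∈ (⊤ : Subgroup S).lowerCentralSeries j, (x : G) ∈ K :=
    ⟨k, fun x hx => by
      rw [hk, Subgroup.mem_bot] at hx
      simp [hx]⟩
  classical
  obtain ⟨j, hj⟩ : ∃ j, Nat.find hex = j + 1 := by
    refine Nat.exists_eq_succ_of_ne_zero fun h0 => hSK fun x hx => ?_
    have := Nat.find_spec hex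
    rw [h0] at this
    exact this ⟨x, hx⟩ trivial
  have hspec := Nat.find_spec hex
  rw [hj] at hspec
  obtain ⟨z, hz, hzK⟩ : ∃ z ∈ (⊤ : Subgroup S).lowerCentralSeries j, (z : G) ∉ K := by
    have := Nat.find_min hex (m := j) (by omega)
    push Not at this
    exact this
  refine ⟨z, z.2, hzK, fun s hs => ?_⟩
  have h1 : z * ⟨s, hs⟩ * z⁻¹ * (⟨s, hs⟩ : S)⁻¹ ∈ (⊤ : Subgroup S).lowerCentralSeries (j + 1) := by
    rw [Subgroup.lowerCentralSeries_succ]
    exact Subgroup.commutator_mem_commutator hz trivial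
  have h2 := K.inv_mem (hspec _ h1)
  simpa [mul_assoc] using h2

theorem inter_eq_one_of_mul_eq {V : Subgroup G} {z x w : G} (hcop : (orderOf z).Coprime (orderOf w))
    (hw : w * z = z * w) (hx : z * x * z⁻¹ = x * w) : w = 1 := by
  have hpow : ∀ i : ℕ, z ^ i * x * (z ^ i)⁻¹ = x * w ^ i := by
    intro i
    induction i with
    | zero => simp
    | succ i ih =>
      have hc : z * w ^ i = w ^ i * z := ((Commute.pow_left (show Commute w z from hw) i).symm).eq
      calc z ^ (i + 1) * x * (z ^ (i + 1))⁻¹ = z * (z ^ i * x * (z ^ i)⁻¹) * z⁻¹ := by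
            rw [pow_succ']; group
        _ = z * x * (w ^ i * z⁻¹) := by rw [ih]; group
        _ = z * x * (z⁻¹ * w ^ i) := by
            congr 1
            rw [eq_inv_mul_iff_mul_eq, ← mul_assoc, hc, mul_inv_cancel_right]
        _ = x * w * w ^ i := by rw [← mul_assoc, hx]
        _ = x * w ^ (i + 1) := by rw [pow_succ', mul_assoc]
  have h := hpow (orderOf z)
  rw [pow_orderOf_eq_one, inv_one, one_mul, mul_one, left_eq_mul] at h
  exact orderOf_eq_one_iff.mp
    (Nat.eq_one_of_dvd_coprimes hcop.symm dvd_rfl (orderOf_dvd_of_pow_eq_one h))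

/-- A nilpotent group acting coprimely without fixed points on an abelian group: the fixed point
orders have geometric mean at most the square root. -/
theorem prod_fix_sq_le (S : Subgroup G) [Group.IsNilpotent S] [Fintype S] (n : ℕ) :
    ∀ V : Subgroup G, Nat.card V = n → IsMulCommutative V →
      (∀ s ∈ S, ∀ v ∈ V, s * v * s⁻¹ ∈ V) → (Nat.card S).Coprime (Nat.card V) →
      (∀ v ∈ V, (∀ s ∈ S, v * s = s * v) → v = 1) →
      (∏ s : S, Nat.card (fix V (s : G))) ^ 2 ≤ Nat.card V ^ Nat.card S := by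
  induction n using Nat.strong_induction_on with
  | _ n ih =>
    intro V hn hV hinv hcop hfix
    classical
    haveI := hV
    by_cases hS : S ≤ Subgroup.centralizer (V : Set G)
    · have hbot : Nat.card V = 1 := by
        rw [Subgroup.card_eq_one, Subgroup.eq_bot_iff_forall]
        exact fun v hv => hfix v hv fun s hs => Subgroup.mem_centralizer_iff.mp (hS hs) v hv
      have : ∀ s : S, Nat.card (fix V (s : G)) = 1 := fun s =>
        Nat.eq_one_of_dvd_one (hbot ▸ Subgroup.card_dvd_of_le inf_le_left)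
      simp [this, hbot]
    · obtain ⟨z, hzS, hzK, hz⟩ := exists_central_outside S (Subgroup.centralizer (V : Set G)) (by
        intro s hs k hk
        rw [Subgroup.mem_centralizer_iff] at hk ⊢
        intro v hv
        have hv' : s⁻¹ * v * s ∈ V := by simpa using hinv s⁻¹ (S.inv_mem hs) v hv
        calc v * (s * k * s⁻¹) = s * ((s⁻¹ * v * s) * k) * s⁻¹ := by group
          _ = s * (k * (s⁻¹ * v * s)) * s⁻¹ := by rw [hk _ hv']
          _ = s * k * s⁻¹ * v := by group) hS
      have hconjV : ∀ s ∈ S, ∀ v ∈ V, z * (s * v * s⁻¹) * z⁻¹ = s * (z * v * z⁻¹) * s⁻¹ := by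
        intro s hs v hv
        have hk := Subgroup.mem_centralizer_iff.mp (hz s hs) (z * (s * v * s⁻¹) * z⁻¹)
          (hinv z hzS _ (hinv s hs v hv))
        calc z * (s * v * s⁻¹) * z⁻¹
            = (s * z * s⁻¹ * z⁻¹) * (z * (s * v * s⁻¹) * z⁻¹) * (s * z * s⁻¹ * z⁻¹)⁻¹ := by
              rw [← hk, mul_inv_cancel_right]
          _ = s * (z * v * z⁻¹) * s⁻¹ := by group
      set W := fix V z with hW
      have hWinv : ∀ s ∈ S, ∀ w ∈ W, s * w * s⁻¹ ∈ W := by
        intro s hs w hw
        obtain ⟨hwV, hwz⟩ := mem_fix.mp hw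
        refine mem_fix.mpr ⟨hinv s hs w hwV, ?_⟩
        have h := hconjV s hs w hwV
        rw [show z * w * z⁻¹ = w by rw [← hwz, mul_inv_cancel_right]] at h
        exact (mul_inv_eq_iff_eq_mul.mp h).symm
      have hWV : W ≤ V := inf_le_left
      have hWlt : Nat.card W < n := by
        rw [← hn]
        refine lt_of_le_of_ne (Subgroup.card_le_of_le hWV) fun h => hzK ?_
        have he : W = V := Subgroup.eq_of_le_of_card_ge hWV h.ge
        exact Subgroup.mem_centralizer_iff.mpr fun v hv => (mem_fix.mp (he.ge hv)).2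
      have hre : ∏ s : S, Nat.card (fix V ((s : G) * z)) = ∏ s : S, Nat.card (fix V (s : G)) :=
        Fintype.prod_equiv (Equiv.mulRight (⟨z, hzS⟩ : S)) _ _ fun s => rfl
      rcases eq_or_ne W ⊥ with hWbot | hWbot
      · rw [sq]
        nth_rewrite 2 [← hre]
        rw [← Finset.prod_mul_distrib]
        refine le_trans (Finset.prod_le_prod' fun s _ => card_fix_mul_le hV fun v hv hv' => ?_) ?_
        · obtain ⟨hvV, h1⟩ := mem_fix.mp hv
          have h2 := (mem_fix.mp hv').2
          have hvW : v ∈ W := mem_fix.mpr ⟨hvV, mul_left_cancel (a := (s : G)) (by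
            rw [← mul_assoc, ← h1, mul_assoc, h2, mul_assoc])⟩
          rwa [hWbot, Subgroup.mem_bot] at hvW
        · rw [Finset.prod_const, Finset.card_univ, Nat.card_eq_fintype_card (α := S)]
      · -- the complement `[V, z]`
        let d : V →* G :=
          { toFun := fun v => z * (v : G) * z⁻¹ * (v : G)⁻¹
            map_one' := by simp
            map_mul' := fun a b => by
              have h1 : Commute ((a : G)) (z * (b : G) * z⁻¹ * (b : G)⁻¹) :=
                congrArg Subtype.val (hV.is_comm.comm a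
                  (⟨_, V.mul_mem (hinv z hzS b b.2) (V.inv_mem b.2)⟩ : V))
              calc z * ((a * b : V) : G) * z⁻¹ * ((a * b : V) : G)⁻¹
                  = z * (a : G) * z⁻¹ * ((z * (b : G) * z⁻¹ * (b : G)⁻¹) * (a : G)⁻¹) := by
                    rw [Subgroup.coe_mul]; group
                _ = z * (a : G) * z⁻¹ * ((a : G)⁻¹ * (z * (b : G) * z⁻¹ * (b : G)⁻¹)) := by
                    rw [h1.inv_left.eq]
                _ = _ := by group }
        have hmemU : ∀ v : V, d v ∈ V := fun v => V.mul_mem (hinv z hzS v v.2) (V.inv_mem v.2)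
        set U := d.range with hU
        have hUV : U ≤ V := by rintro _ ⟨v, rfl⟩; exact hmemU v
        have hUinv : ∀ s ∈ S, ∀ u ∈ U, s * u * s⁻¹ ∈ U := by
          rintro s hs _ ⟨v, rfl⟩
          refine ⟨⟨_, hinv s hs v v.2⟩, ?_⟩
          show z * (s * (v : G) * s⁻¹) * z⁻¹ * (s * (v : G) * s⁻¹)⁻¹ = s * (z * v * z⁻¹ * (v : G)⁻¹) * s⁻¹
          rw [hconjV s hs v v.2]; group
        have hker : d.ker.map V.subtype = W := by
          ext v
          constructor
          · rintro ⟨w, hw, rfl⟩
            refine mem_fix.mpr ⟨w.2, ?_⟩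
            have h : z * (w : G) * z⁻¹ * (w : G)⁻¹ = 1 := hw
            rw [mul_inv_eq_one, mul_inv_eq_iff_eq_mul] at h
            exact h.symm
          · intro hv
            obtain ⟨hvV, hvz⟩ := mem_fix.mp hv
            refine ⟨⟨v, hvV⟩, ?_, rfl⟩
            show z * v * z⁻¹ * v⁻¹ = 1
            rw [← hvz]; group
        have hcard : Nat.card U * Nat.card W = Nat.card V := by
          rw [← hker, Subgroup.card_map_of_injective V.subtype_injective, hU,
            ← Subgroup.index_ker, mul_comm, Subgroup.card_mul_index]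
        have hint : ∀ u ∈ U, u ∈ W → u = 1 := by
          rintro _ ⟨v, rfl⟩ hu
          obtain ⟨-, huz⟩ := mem_fix.mp hu
          refine inter_eq_one_of_mul_eq (V := V) (x := (v : G)) ?_ huz ?_
          · refine Nat.Coprime.coprime_dvd_left (S.orderOf_dvd_natCard hzS)
              (hcop.coprime_dvd_right (V.orderOf_dvd_natCard (hmemU v)))
          · show _ = (v : G) * (z * v * z⁻¹ * (v : G)⁻¹)
            have h1 : Commute (v : G) (z * (v : G) * z⁻¹ * (v : G)⁻¹) :=
              congrArg Subtype.val (hV.is_comm.comm v (⟨_, hmemU v⟩ : V))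
            rw [h1.eq]; group
        have hUlt : Nat.card U < n := by
          rw [← hn, ← hcard]
          refine lt_mul_of_one_lt_right Nat.card_pos ?_
          exact Nat.one_lt_iff_ne_zero_and_ne_one.mpr ⟨Nat.card_pos.ne', fun h =>
            hWbot (Subgroup.card_eq_one.mp h)⟩
        have hsub : ∀ {X : Subgroup G}, X ≤ V → IsMulCommutative X := fun {X} hX =>
          ⟨⟨fun a b => Subtype.ext (show (a : G) * b = b * a from congrArg Subtype.val
            (hV.is_comm.comm (⟨a, hX a.2⟩ : V) ⟨b, hX b.2⟩))⟩⟩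
        have iU := ih _ hUlt U rfl (hsub hUV) hUinv
          (hcop.coprime_dvd_right (Subgroup.card_dvd_of_le hUV)) (fun v hv => hfix v (hUV hv))
        have iW := ih _ hWlt W rfl (hsub hWV) hWinv
          (hcop.coprime_dvd_right (Subgroup.card_dvd_of_le hWV)) (fun v hv => hfix v (hWV hv))
        have hle : ∀ s : S, Nat.card (fix V (s : G)) ≤
            Nat.card (fix U (s : G)) * Nat.card (fix W (s : G)) := by
          intro s
          have hall : ∀ v : G, v ∈ V → ∃ uw : U × W, (uw.1 : G) * uw.2 = v := by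
            intro v hv
            let m : U × W → V := fun uw => ⟨(uw.1 : G) * uw.2, V.mul_mem (hUV uw.1.2) (hWV uw.2.2)⟩
            have hinj : Function.Injective m := by
              rintro ⟨a, b⟩ ⟨c, d'⟩ hab
              have h1 : (a : G) * b = c * d' := congrArg Subtype.val hab
              have h2 : (c : G)⁻¹ * a = d' * (b : G)⁻¹ := by
                rw [eq_mul_inv_iff_mul_eq, mul_assoc, h1, inv_mul_cancel_left]
              have h3 : (c : G)⁻¹ * a = 1 := hint _ (U.mul_mem (U.inv_mem c.2) a.2)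
                (h2 ▸ W.mul_mem d'.2 (W.inv_mem b.2))
              have h4 : (a : G) = c := (inv_mul_eq_one.mp h3).symm
              rw [h3, eq_comm, mul_inv_eq_one] at h2
              exact Prod.ext (Subtype.ext h4) (Subtype.ext h2.symm)
            obtain ⟨uw, huw⟩ := (hinj.bijective_of_nat_card_le
              (by rw [Nat.card_prod, hcard])).2 ⟨v, hv⟩
            exact ⟨uw, congrArg Subtype.val huw⟩
          rw [← Nat.card_prod]
          have hsplit : ∀ v : fix V (s : G), ∃ uw : fix U (s : G) × fix W (s : G),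
              (uw.1 : G) * uw.2 = v := by
            intro v
            obtain ⟨hvV, hvs⟩ := mem_fix.mp v.2
            obtain ⟨⟨a, b⟩, hab⟩ := hall v hvV
            have hsa : (s : G) * a * (s : G)⁻¹ ∈ U := hUinv s s.2 a a.2
            have hsb : (s : G) * b * (s : G)⁻¹ ∈ W := hWinv s s.2 b b.2
            have e : ((s : G) * a * (s : G)⁻¹) * ((s : G) * b * (s : G)⁻¹) = (a : G) * b := by
              rw [hab, show (s : G) * a * (s : G)⁻¹ * ((s : G) * b * (s : G)⁻¹) =
                (s : G) * ((a : G) * b) * (s : G)⁻¹ by group, hab, ← hvs, mul_inv_cancel_right]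
            have h2 : (a : G)⁻¹ * ((s : G) * a * (s : G)⁻¹) = b * ((s : G) * b * (s : G)⁻¹)⁻¹ := by
              rw [eq_mul_inv_iff_mul_eq, mul_assoc, e, inv_mul_cancel_left]
            have h3 : (a : G)⁻¹ * ((s : G) * a * (s : G)⁻¹) = 1 :=
              hint _ (U.mul_mem (U.inv_mem a.2) hsa) (h2 ▸ W.mul_mem b.2 (W.inv_mem hsb))
            rw [h3, eq_comm, mul_inv_eq_one] at h2
            have ha : (s : G) * a * (s : G)⁻¹ = a := (inv_mul_eq_one.mp h3).symm
            exact ⟨(⟨a, mem_fix.mpr ⟨a.2, (mul_inv_eq_iff_eq_mul.mp ha).symm⟩⟩,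
              ⟨b, mem_fix.mpr ⟨b.2, (mul_inv_eq_iff_eq_mul.mp h2.symm).symm⟩⟩), hab⟩
          choose f hf using hsplit
          exact Nat.card_le_card_of_injective f fun a b h =>
            Subtype.ext (by rw [← hf a, ← hf b, h])
        calc (∏ s : S, Nat.card (fix V (s : G))) ^ 2
            ≤ (∏ s : S, Nat.card (fix U (s : G)) * Nat.card (fix W (s : G))) ^ 2 :=
              Nat.pow_le_pow_left (Finset.prod_le_prod' fun s _ => hle s) 2
          _ = (∏ s : S, Nat.card (fix U (s : G))) ^ 2 * (∏ s : S, Nat.card (fix W (s : G))) ^ 2 := by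
              rw [Finset.prod_mul_distrib, mul_pow]
          _ ≤ Nat.card U ^ Nat.card S * Nat.card W ^ Nat.card S := Nat.mul_le_mul iU iW
          _ = Nat.card V ^ Nat.card S := by rw [← mul_pow, hcard]

/-- Some element fixes at most the square root of the points. -/
theorem exists_fix_sq_le (S : Subgroup G) [Group.IsNilpotent S] (V : Subgroup G)
    (hV : IsMulCommutative V) (hinv : ∀ s ∈ S, ∀ v ∈ V, s * v * s⁻¹ ∈ V)
    (hcop : (Nat.card S).Coprime (Nat.card V))
    (hfix : ∀ v ∈ V, (∀ s ∈ S, v * s = s * v) → v = 1) :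
    ∃ s ∈ S, Nat.card (fix V s) ^ 2 ≤ Nat.card V := by
  classical
  haveI := Fintype.ofFinite S
  by_contra h
  push Not at h
  refine (prod_fix_sq_le S _ V rfl hV hinv hcop hfix).not_gt ?_
  rw [← Finset.prod_pow, Nat.card_eq_fintype_card (α := S), ← Finset.card_univ, ← Finset.prod_const]
  exact Finset.prod_lt_prod_of_nonempty (fun _ _ => Nat.card_pos) (fun s _ => h s s.2)
    ⟨1, Finset.mem_univ _⟩

end Cfsg.Agent.PrimClassSize
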