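import Cfsg.Agent.Lib.CT.PrimClassSize.Core
import Cfsg.Agent.Lib.Basics.Tools
import Mathlib.GroupTheory.Sylow

/-!
# A class size divisible by the degree
-/

set_option autoImplicit false
set_option linter.unusedSectionVars false
set_option linter.style.haveILetI false

namespace Cfsg.Agent.PrimClassSize

open Cfsg.Agent.CT

universe u

section Group

variable {Q : Type u} [Group Q] [Finite Q]

/-- The elements of `X` killed by `n`. -/
def tor (X : Subgroup Q) (hX : IsMulCommutative X) (n : ℕ) : Subgroup Q where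
  carrier := {x | x ∈ X ∧ x ^ n = 1}
  one_mem' := ⟨X.one_mem, one_pow n⟩
  mul_mem' {a b} ha hb := ⟨X.mul_mem ha.1 hb.1, by
    have h : Commute a b :=
      (congrArg Subtype.val (hX.is_comm.comm (⟨a, ha.1⟩ : X) ⟨b, hb.1⟩) : a * b = b * a)
    rw [h.mul_pow, ha.2, hb.2, mul_one]⟩
  inv_mem' {a} ha := ⟨X.inv_mem ha.1, by rw [inv_pow, ha.2, inv_one]⟩

theorem mem_tor {X : Subgroup Q} {hX : IsMulCommutative X} {n : ℕ} {x : Q} :
    x ∈ tor X hX n ↔ x ∈ X ∧ x ^ n = 1 := Iff.rfl

/-- The `p`-part of the order of a subgroup of an abelian subgroup. -/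
theorem factorization_inter_tor {p : ℕ} [Fact p.Prime] (V : Subgroup Q) (hV : IsMulCommutative V)
    {X : Subgroup Q} (hXV : X ≤ V) :
    (Nat.card X).factorization p =
      (Nat.card ↥(X ⊓ tor V hV (p ^ (Nat.card Q).factorization p))).factorization p := by
  set a := (Nat.card Q).factorization p with ha
  refine le_antisymm ?_ ((Nat.factorization_le_iff_dvd Nat.card_pos.ne' Nat.card_pos.ne').mpr
    (Subgroup.card_dvd_of_le inf_le_left) p)
  obtain ⟨R⟩ := (inferInstance : Nonempty (Sylow p X))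
  have hle : (R : Subgroup X).map X.subtype ≤ X ⊓ tor V hV (p ^ a) := by
    rintro _ ⟨x, hx, rfl⟩
    refine ⟨x.2, hXV x.2, ?_⟩
    obtain ⟨k, hk⟩ := R.2 ⟨x, hx⟩
    have hk' : (x : Q) ^ p ^ k = 1 := congrArg (fun t : (R : Subgroup X) => ((t : X) : Q)) hk
    obtain ⟨j, -, hj⟩ := (Nat.dvd_prime_pow Fact.out).mp (orderOf_dvd_of_pow_eq_one hk')
    show (x : Q) ^ p ^ a = 1
    rw [← orderOf_dvd_iff_pow_eq_one, hj]
    refine pow_dvd_pow p ?_
    have := orderOf_dvd_natCard (x : Q)
    rw [hj] at this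
    exact ((Nat.Prime.pow_dvd_iff_le_factorization Fact.out Nat.card_pos.ne').mp this)
  have h := (Nat.factorization_le_iff_dvd Nat.card_pos.ne' Nat.card_pos.ne').mpr
    (Subgroup.card_dvd_of_le hle) p
  rw [Subgroup.card_map_of_injective X.subtype_injective] at h
  have hR : Nat.card (R : Subgroup X) = p ^ (Nat.card X).factorization p := R.card_eq_multiplicity
  rwa [hR, Nat.Prime.factorization_pow Fact.out, Finsupp.single_eq_same] at h

theorem isPGroup_tor {p : ℕ} (V : Subgroup Q) (hV : IsMulCommutative V) (k : ℕ) :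
    IsPGroup p (tor V hV (p ^ k)) := fun x => ⟨k, Subtype.ext x.2.2⟩

theorem normal_tor (V : Subgroup Q) [V.Normal] (hV : IsMulCommutative V) (n : ℕ) :
    (tor V hV n).Normal :=
  ⟨fun x hx g => ⟨Subgroup.Normal.conj_mem inferInstance x hx.1 g, by rw [conj_pow, hx.2]; group⟩⟩

/-- In a nilpotent quotient the join with a Sylow subgroup is normal. -/
theorem sylow_sup_normal {p : ℕ} [Fact p.Prime] (V : Subgroup Q) [V.Normal]
    [Group.IsNilpotent (Q ⧸ V)] (S : Sylow p Q) : ((S : Subgroup Q) ⊔ V).Normal := by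
  have h : ((S.mapSurjective (QuotientGroup.mk'_surjective V) : Sylow p (Q ⧸ V)) :
      Subgroup (Q ⧸ V)).Normal := inferInstance
  rw [Sylow.coe_mapSurjective] at h
  have e : ((S : Subgroup Q).map (QuotientGroup.mk' V)).comap (QuotientGroup.mk' V) =
      (S : Subgroup Q) ⊔ V := by rw [Subgroup.comap_map_eq, QuotientGroup.ker_mk']
  rw [← e]
  exact Subgroup.Normal.comap h _

/-- A Sylow subgroup of the other prime fixes nothing in the `p`-part. -/
theorem fix_trivial {p q : ℕ} [hp : Fact p.Prime] [hq : Fact q.Prime] (hpq : p ≠ q)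
    (hfac : ∀ r : ℕ, r.Prime → r ∣ Nat.card Q → r = p ∨ r = q)
    (V : Subgroup Q) [V.Normal] (hV : IsMulCommutative V) [Group.IsNilpotent (Q ⧸ V)]
    (hcen : ∀ x ∈ V, x ∈ Subgroup.center Q → x = 1) (k : ℕ) (S : Sylow q Q) :
    ∀ v ∈ tor V hV (p ^ k), (∀ s ∈ (S : Subgroup Q), v * s = s * v) → v = 1 := by
  intro v hv hvs
  haveI := normal_tor V hV (p ^ k)
  haveI := sylow_sup_normal V S
  set W := tor V hV (p ^ k) ⊓ Subgroup.centralizer (((S : Subgroup Q) ⊔ V : Subgroup Q) : Set Q)
    with hW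
  have hvW : v ∈ W := by
    refine ⟨hv, ?_⟩
    have h : (S : Subgroup Q) ⊔ V ≤ Subgroup.centralizer {v} := by
      refine sup_le (fun s hs => ?_) fun w hw => ?_
      · rw [Subgroup.mem_centralizer_singleton_iff]; exact (hvs s hs).symm
      · rw [Subgroup.mem_centralizer_singleton_iff]
        exact congrArg Subtype.val (hV.is_comm.comm (⟨w, hw⟩ : V) ⟨v, hv.1⟩)
    exact Subgroup.mem_centralizer_iff.mpr fun y hy => Subgroup.mem_centralizer_singleton_iff.mp (h hy)
  by_contra hv1
  obtain ⟨P⟩ := (inferInstance : Nonempty (Sylow p Q))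
  haveI : W.Normal := Subgroup.normal_inf_normal _ _
  letI : MulAction (P : Subgroup Q) W :=
    MulAction.compHom W ((MulAut.conjNormal (H := W)).comp (P : Subgroup Q).subtype)
  have h1 : (1 : W) ∈ MulAction.fixedPoints (P : Subgroup Q) W := fun s => map_one (MulAut.conjNormal (H := W) (s : Q))
  have hdvd : p ∣ Nat.card W := by
    have hWp : IsPGroup p W := (isPGroup_tor V hV k).to_le inf_le_left
    obtain ⟨j, hj⟩ := IsPGroup.iff_card.mp hWp
    rw [hj]
    refine dvd_pow_self p fun h0 => hv1 ?_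
    rw [h0, pow_zero, Subgroup.card_eq_one] at hj
    exact (Subgroup.mem_bot).mp (hj ▸ hvW)
  obtain ⟨x, hxfix, hx1⟩ := P.2.exists_fixed_point_of_prime_dvd_card_of_fixed_point W hdvd h1
  have hPx : (P : Subgroup Q) ≤ Subgroup.centralizer {(x : Q)} := fun s hs => by
    rw [Subgroup.mem_centralizer_singleton_iff]
    have h : MulAut.conjNormal (H := W) s x = x := hxfix ⟨s, hs⟩
    have h' := congrArg Subtype.val h
    rw [MulAut.conjNormal_apply] at h'
    exact mul_inv_eq_iff_eq_mul.mp h'
  have hSx : (S : Subgroup Q) ≤ Subgroup.centralizer {(x : Q)} := fun s hs => by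
    rw [Subgroup.mem_centralizer_singleton_iff]
    exact Subgroup.mem_centralizer_iff.mp x.2.2 s (Subgroup.mem_sup_left hs)
  have htop : Subgroup.centralizer {(x : Q)} = ⊤ := by
    refine Subgroup.eq_top_of_card_eq _ (Nat.dvd_antisymm (Subgroup.card_subgroup_dvd_card _) ?_)
    have e : (Nat.card (P : Subgroup Q)) * Nat.card (S : Subgroup Q) = Nat.card Q := by
      rw [show Nat.card (P : Subgroup Q) = _ from P.card_eq_multiplicity,
        show Nat.card (S : Subgroup Q) = _ from S.card_eq_multiplicity]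
      have hc : (p ^ (Nat.card Q).factorization p * q ^ (Nat.card Q).factorization q) ≠ 0 :=
        mul_ne_zero (pow_ne_zero _ hp.out.ne_zero) (pow_ne_zero _ hq.out.ne_zero)
      refine Nat.eq_of_factorization_eq hc Nat.card_pos.ne' fun r => ?_
      rw [Nat.factorization_mul (pow_ne_zero _ hp.out.ne_zero) (pow_ne_zero _ hq.out.ne_zero),
        hp.out.factorization_pow, hq.out.factorization_pow, Finsupp.add_apply]
      by_cases hr : r.Prime ∧ r ∣ Nat.card Q
      · rcases hfac r hr.1 hr.2 with rfl | rfl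
        · simp [hpq.symm]
        · simp [hpq]
      · have h0 : (Nat.card Q).factorization r = 0 := by
          rw [not_and_or] at hr
          rcases hr with h | h
          · exact Nat.factorization_eq_zero_of_not_prime _ h
          · exact Nat.factorization_eq_zero_of_not_dvd h
        by_cases hrp : r = p
        · subst hrp; simp [hpq.symm, h0]
        · by_cases hrq : r = q
          · subst hrq; simp [hpq, h0]
          · simp [hrp, hrq, h0]
    rw [← e]
    exact Nat.Coprime.mul_dvd_of_dvd_of_dvd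
      (IsPGroup.coprime_card_of_ne p q hpq _ _ P.isPGroup' S.isPGroup')
      (Subgroup.card_dvd_of_le hPx) (Subgroup.card_dvd_of_le hSx)
  have hxV : (x : Q) ∈ V := x.2.1.1
  exact hx1 (Subtype.ext (hcen x hxV (Subgroup.mem_center_iff.mpr fun g => by
    have : g ∈ Subgroup.centralizer {(x : Q)} := htop ▸ Subgroup.mem_top g
    exact Subgroup.mem_centralizer_singleton_iff.mp this))).symm

/-- Fixed points of a product are fixed by its parts. -/
theorem fix_le_of_commute_mod {p q : ℕ} (hpq : p.Coprime q) (V : Subgroup Q) [V.Normal]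
    (hV : IsMulCommutative V) {s t : Q} {a b : ℕ}
    (hs : (QuotientGroup.mk' V s) ^ q ^ b = 1) (ht : (QuotientGroup.mk' V t) ^ p ^ a = 1)
    (hc : Commute (QuotientGroup.mk' V s) (QuotientGroup.mk' V t)) :
    fix V (s * t) ≤ fix V s := by
  obtain ⟨k, hk1, hk2⟩ := Nat.chineseRemainder ((hpq.symm.pow_left b).pow_right a : (q ^ b).Coprime (p ^ a)) 1 0
  have hpow : QuotientGroup.mk' V ((s * t) ^ k) = QuotientGroup.mk' V s := by
    rw [map_pow, map_mul, hc.mul_pow]
    have h1 : QuotientGroup.mk' V s ^ k = QuotientGroup.mk' V s := by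
      conv_rhs => rw [← pow_one (QuotientGroup.mk' V s)]
      exact pow_eq_pow_iff_modEq.mpr (hk1.of_dvd (orderOf_dvd_of_pow_eq_one hs))
    have h2 : QuotientGroup.mk' V t ^ k = 1 := by
      rw [← orderOf_dvd_iff_pow_eq_one]
      exact (orderOf_dvd_of_pow_eq_one ht).trans (Nat.modEq_zero_iff_dvd.mp hk2)
    rw [h1, h2, mul_one]
  obtain ⟨w, hw, hst⟩ : ∃ w ∈ V, (s * t) ^ k = s * w :=
    ⟨s⁻¹ * (s * t) ^ k, QuotientGroup.eq.mp hpow.symm, by group⟩
  intro v hv
  obtain ⟨hvV, hvg⟩ := mem_fix.mp hv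
  refine mem_fix.mpr ⟨hvV, ?_⟩
  have h1 : Commute v ((s * t) ^ k) := (show Commute v (s * t) from hvg).pow_right k
  have h2 : Commute v w :=
    (congrArg Subtype.val (hV.is_comm.comm (⟨v, hvV⟩ : V) ⟨w, hw⟩) : v * w = w * v)
  rw [hst] at h1
  have h3 : Commute v (s * w * w⁻¹) := h1.mul_right h2.inv_right
  rwa [mul_inv_cancel_right] at h3

/-- An element whose class size squared is divisible by the order of `V`. -/
theorem exists_card_dvd_index_sq {p q : ℕ} [hp : Fact p.Prime] [hq : Fact q.Prime] (hpq : p ≠ q)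
    (hfac : ∀ r : ℕ, r.Prime → r ∣ Nat.card Q → r = p ∨ r = q)
    (V : Subgroup Q) [V.Normal] (hV : IsMulCommutative V) [Group.IsNilpotent (Q ⧸ V)]
    (hcen : ∀ x ∈ V, x ∈ Subgroup.center Q → x = 1) :
    ∃ g : Q, Nat.card V ∣ (Subgroup.centralizer ({g} : Set Q)).index ^ 2 := by
  obtain ⟨S⟩ := (inferInstance : Nonempty (Sylow q Q))
  obtain ⟨P⟩ := (inferInstance : Nonempty (Sylow p Q))
  haveI : Group.IsNilpotent (S : Subgroup Q) := S.2.isNilpotent
  haveI : Group.IsNilpotent (P : Subgroup Q) := P.2.isNilpotent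
  set a := (Nat.card Q).factorization p with ha
  set b := (Nat.card Q).factorization q with hb
  have hcop : p.Coprime q := (Nat.coprime_primes hp.out hq.out).mpr hpq
  have hgood : ∀ (r r' : ℕ) [Fact r.Prime] [Fact r'.Prime] (_ : r ≠ r')
      (_ : ∀ l : ℕ, l.Prime → l ∣ Nat.card Q → l = r ∨ l = r') (R : Sylow r' Q)
      [Group.IsNilpotent (R : Subgroup Q)],
      ∃ s ∈ (R : Subgroup Q), Nat.card (fix (tor V hV (r ^ (Nat.card Q).factorization r)) s) ^ 2 ≤
        Nat.card (tor V hV (r ^ (Nat.card Q).factorization r)) := by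
    intro r r' _ _ hne hf R _
    haveI := normal_tor V hV (r ^ (Nat.card Q).factorization r)
    refine exists_fix_sq_le (R : Subgroup Q) (tor V hV (r ^ (Nat.card Q).factorization r)) ?_
      (fun s _ v hv => Subgroup.Normal.conj_mem inferInstance v hv s)
      (IsPGroup.coprime_card_of_ne r' r hne.symm _ _ R.isPGroup' (isPGroup_tor V hV _)) ?_
    · exact ⟨⟨fun x y => Subtype.ext (show (x : Q) * y = y * x from congrArg Subtype.val
        (hV.is_comm.comm (⟨x, x.2.1⟩ : V) ⟨y, y.2.1⟩))⟩⟩
    · exact fix_trivial hne hf V hV hcen _ R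
  obtain ⟨s, hsS, hs⟩ := hgood p q hpq hfac S
  obtain ⟨t, htP, ht⟩ := hgood q p hpq.symm (fun l hl hd => (hfac l hl hd).symm) P
  have hord : ∀ (r : ℕ) [Fact r.Prime] (R : Sylow r Q) (x : Q), x ∈ (R : Subgroup Q) →
      QuotientGroup.mk' V x ^ r ^ (Nat.card Q).factorization r = 1 := by
    intro r _ R x hx
    have := (R : Subgroup Q).orderOf_dvd_natCard hx
    rw [show Nat.card (R : Subgroup Q) = _ from R.card_eq_multiplicity] at this
    rw [← map_pow, orderOf_dvd_iff_pow_eq_one.mp this, map_one]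
  have hc : Commute (QuotientGroup.mk' V s) (QuotientGroup.mk' V t) := by
    have hS' : ((S : Subgroup Q).map (QuotientGroup.mk' V)).Normal :=
      Sylow.coe_mapSurjective (QuotientGroup.mk'_surjective V) S ▸ inferInstance
    have hP' : ((P : Subgroup Q).map (QuotientGroup.mk' V)).Normal :=
      Sylow.coe_mapSurjective (QuotientGroup.mk'_surjective V) P ▸ inferInstance
    exact Subgroup.commute_of_normal_of_disjoint _ _ hS' hP'
      (IsPGroup.disjoint_of_ne q p hpq.symm _ _ (S.2.map _) (P.2.map _)) _ _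
      (Subgroup.mem_map_of_mem _ hsS) (Subgroup.mem_map_of_mem _ htP)
  have h1 : fix V (s * t) ≤ fix V s :=
    fix_le_of_commute_mod hcop V hV (hord q S s hsS) (hord p P t htP) hc
  have h2 : fix V (t * s) ≤ fix V t :=
    fix_le_of_commute_mod hcop.symm V hV (hord p P t htP) (hord q S s hsS) hc.symm
  have h2' : fix V (s * t) ≤ fix V t := by
    -- `s * t` and `t * s` differ by an element of `V`
    obtain ⟨w, hw, hst⟩ : ∃ w ∈ V, t * s = s * t * w := by
      refine ⟨(s * t)⁻¹ * (t * s), QuotientGroup.eq.mp ?_, by group⟩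
      have := hc.eq
      simpa using this
    intro v hv
    refine h2 ?_
    obtain ⟨hvV, hvg⟩ := mem_fix.mp hv
    refine mem_fix.mpr ⟨hvV, ?_⟩
    have h2 : Commute v w :=
      (congrArg Subtype.val (hV.is_comm.comm (⟨v, hvV⟩ : V) ⟨w, hw⟩) : v * w = w * v)
    rw [hst]
    exact (show Commute v (s * t) from hvg).mul_right h2
  refine ⟨s * t, ?_⟩
  have hfixle : fix V (s * t) ≤ V := inf_le_left
  -- the index of the fixed points divides the class size
  have hdvd : (fix V (s * t)).relIndex V ∣ (Subgroup.centralizer ({s * t} : Set Q)).index := by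
    have hcard := Basics.card_mul_card_eq_card_sup_mul_card_inf (N := V)
      (H := Subgroup.centralizer ({s * t} : Set Q)) (by rw [Subgroup.normalizer_eq_top]; exact le_top)
    have hi := Subgroup.card_mul_index (fix V (s * t) |>.subgroupOf V)
    rw [Nat.card_congr (Subgroup.subgroupOfEquivOfLe hfixle).toEquiv] at hi
    have hC := Subgroup.card_mul_index (Subgroup.centralizer ({s * t} : Set Q))
    have hsup := Subgroup.card_subgroup_dvd_card (V ⊔ Subgroup.centralizer ({s * t} : Set Q))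
    obtain ⟨m, hm⟩ := hsup
    refine ⟨m, ?_⟩
    have hpos : 0 < Nat.card (fix V (s * t)) * Nat.card (Subgroup.centralizer ({s * t} : Set Q)) :=
      Nat.mul_pos Nat.card_pos Nat.card_pos
    refine Nat.eq_of_mul_eq_mul_left hpos ?_
    calc Nat.card (fix V (s * t)) * Nat.card (Subgroup.centralizer ({s * t} : Set Q)) *
          (Subgroup.centralizer ({s * t} : Set Q)).index
        = Nat.card (fix V (s * t)) * Nat.card Q := by rw [mul_assoc, hC]
      _ = Nat.card (V ⊓ Subgroup.centralizer ({s * t} : Set Q) : Subgroup Q) *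
          (Nat.card (V ⊔ Subgroup.centralizer ({s * t} : Set Q) : Subgroup Q) * m) := by rw [← hm]; rfl
      _ = Nat.card V * Nat.card (Subgroup.centralizer ({s * t} : Set Q)) * m := by rw [hcard]; ring
      _ = _ := by rw [← hi]; unfold Subgroup.relIndex; ring
  refine dvd_trans ?_ (pow_dvd_pow_of_dvd hdvd 2)
  have hrel : (fix V (s * t)).relIndex V ≠ 0 := Subgroup.index_ne_zero_of_finite
  rw [← Nat.factorization_le_iff_dvd Nat.card_pos.ne' (pow_ne_zero 2 hrel)]
  intro r
  rw [Nat.factorization_pow, Finsupp.smul_apply, smul_eq_mul]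
  by_cases hr : r.Prime ∧ r ∣ Nat.card V
  swap
  · rw [not_and_or] at hr
    rcases hr with h | h
    · simp [Nat.factorization_eq_zero_of_not_prime _ h]
    · simp [Nat.factorization_eq_zero_of_not_dvd h]
  haveI := Fact.mk hr.1
  have hmul : (Nat.card V).factorization r =
      (Nat.card (fix V (s * t))).factorization r + ((fix V (s * t)).relIndex V).factorization r := by
    have hi := Subgroup.card_mul_index (fix V (s * t) |>.subgroupOf V)
    rw [Nat.card_congr (Subgroup.subgroupOfEquivOfLe hfixle).toEquiv] at hi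
    conv_lhs => rw [← hi]
    exact Finsupp.ext_iff.mp (Nat.factorization_mul Nat.card_pos.ne' hrel) r
  suffices h : 2 * (Nat.card (fix V (s * t))).factorization r ≤ (Nat.card V).factorization r by omega
  set T := tor V hV (r ^ (Nat.card Q).factorization r) with hT
  obtain ⟨u, hu, hle⟩ : ∃ u, Nat.card (fix T u) ^ 2 ≤ Nat.card T ∧ fix V (s * t) ≤ fix V u := by
    rcases hfac r hr.1 (hr.2.trans (Subgroup.card_subgroup_dvd_card V)) with rfl | rfl
    · exact ⟨s, hs, h1⟩
    · exact ⟨t, ht, h2'⟩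
  have hsub : fix V (s * t) ⊓ T ≤ fix T u := fun v hv =>
    mem_fix.mpr ⟨hv.2, (mem_fix.mp (hle hv.1)).2⟩
  have hTV : T ≤ V := fun v hv => hv.1
  rw [factorization_inter_tor V hV hfixle, factorization_inter_tor V hV (le_refl V),
    inf_eq_right.mpr hTV, ← hT]
  obtain ⟨i, hi⟩ := IsPGroup.iff_card.mp ((isPGroup_tor (p := r) V hV _).to_le
    (inf_le_right : fix V (s * t) ⊓ T ≤ T))
  obtain ⟨j, hj⟩ := IsPGroup.iff_card.mp (isPGroup_tor (p := r) V hV ((Nat.card Q).factorization r))
  rw [← hT] at hj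
  have h3 : Nat.card ↥(fix V (s * t) ⊓ T) ^ 2 ≤ Nat.card T :=
    le_trans (Nat.pow_le_pow_left (Subgroup.card_le_of_le hsub) 2) hu
  rw [hi, hj, ← pow_mul] at h3
  rw [hi, hj, hr.1.factorization_pow, hr.1.factorization_pow, Finsupp.single_eq_same,
    Finsupp.single_eq_same]
  have := (Nat.pow_le_pow_iff_right hr.1.one_lt).mp h3
  omega

end Group

/-- The faithful case. -/
theorem exists_deg_dvd {G : Type u} [Group G] [Fintype G] {χ : G → ℂ} (hχ : IsIrrCharacter G χ)
    (hfaith : ∀ g, χ g = χ 1 → g = 1) (hqp : QuasiPrimAbove ⊥ χ) {p q : ℕ} [Fact p.Prime]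
    [Fact q.Prime] (hpq : p ≠ q) (hfac : ∀ r : ℕ, r.Prime → r ∣ Nat.card G → r = p ∨ r = q)
    (F : Subgroup G) [F.Normal] [Group.IsNilpotent F] (hnil : Group.IsNilpotent (G ⧸ F)) :
    ∃ g : G, deg χ ∣ (Subgroup.centralizer ({g} : Set G)).index := by
  classical
  have hd := deg_sq_mul_card hχ hfaith hqp F hnil
  have hcomm := commutator_le_center hχ hfaith hqp F
  set Z := F ⊓ Subgroup.center G with hZ
  haveI : Z.Normal := Subgroup.normal_inf_normal _ _
  set π := QuotientGroup.mk' Z with hπ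
  have hsurj : Function.Surjective π := QuotientGroup.mk'_surjective Z
  set V := F.map π with hVdef
  haveI : V.Normal := Subgroup.Normal.map inferInstance _ hsurj
  have hV : IsMulCommutative V := by
    refine ⟨⟨?_⟩⟩
    rintro ⟨_, a, ha, rfl⟩ ⟨_, b, hb, rfl⟩
    refine Subtype.ext ?_
    show π a * π b = π b * π a
    rw [← map_mul, ← map_mul, hπ, QuotientGroup.mk'_apply, QuotientGroup.mk'_apply,
      QuotientGroup.eq]
    refine ⟨F.mul_mem (F.inv_mem (F.mul_mem ha hb)) (F.mul_mem hb ha), ?_⟩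
    have h := hcomm (Subgroup.commutator_mem_commutator (F.inv_mem hb) (F.inv_mem ha))
    simp only [commutatorElement_def, inv_inv] at h
    show _ ∈ Subgroup.center G
    convert h using 1
    group
  haveI : Group.IsNilpotent ((G ⧸ Z) ⧸ V) := by
    refine Group.nilpotent_of_surjective (G := G ⧸ F)
      (QuotientGroup.lift F ((QuotientGroup.mk' V).comp π) fun x hx => ?_) ?_
    · exact (QuotientGroup.eq_one_iff _).mpr ⟨x, hx, rfl⟩
    · intro y
      obtain ⟨z, rfl⟩ := QuotientGroup.mk'_surjective V y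
      obtain ⟨x, rfl⟩ := hsurj z
      exact ⟨QuotientGroup.mk x, rfl⟩
  have hcen : ∀ x ∈ V, x ∈ Subgroup.center (G ⧸ Z) → x = 1 := by
    rintro _ ⟨f, hf, rfl⟩ hxc
    haveI : (Subgroup.zpowers (π f)).Normal := ⟨fun a ha g => by
      rw [Subgroup.mem_center_iff.mp (Subgroup.zpowers_le.mpr hxc ha) g, mul_inv_cancel_right]
      exact ha⟩
    haveI : ((Subgroup.zpowers (π f)).comap π ⊓ F).Normal := Subgroup.normal_inf_normal _ _
    have key : ∀ a ∈ (Subgroup.zpowers (π f)).comap π ⊓ F,
        ∃ (i : ℤ) (z : G), z ∈ Subgroup.center G ∧ a = f ^ i * z := by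
      intro a ha
      obtain ⟨i, hi⟩ := ha.1
      refine ⟨i, (f ^ i)⁻¹ * a, ?_, by group⟩
      have h : π (f ^ i) = π a := (map_zpow π f i).trans hi
      exact (QuotientGroup.eq.mp h).2
    have hAc := le_center_of_comm hχ hfaith hqp ((Subgroup.zpowers (π f)).comap π ⊓ F)
      fun a ha b hb => by
        obtain ⟨i, z, hz, rfl⟩ := key a ha
        obtain ⟨j, w, hw, rfl⟩ := key b hb
        have hz' : Commute (f ^ j) z := Subgroup.mem_center_iff.mp hz (f ^ j)
        have hw' : Commute (f ^ i) w := Subgroup.mem_center_iff.mp hw (f ^ i)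
        have hzw : Commute z w := Subgroup.mem_center_iff.mp hw z
        exact ((Commute.zpow_zpow_self f i j).mul_right hw').mul_left (hz'.symm.mul_right hzw)
    exact (QuotientGroup.eq_one_iff f).mpr
      ⟨hf, hAc ⟨Subgroup.mem_zpowers (π f), hf⟩⟩
  have hfacQ : ∀ r : ℕ, r.Prime → r ∣ Nat.card (G ⧸ Z) → r = p ∨ r = q := fun r hr h =>
    hfac r hr (h.trans (Subgroup.card_quotient_dvd_card Z))
  obtain ⟨x, hx⟩ := exists_card_dvd_index_sq hpq hfacQ V hV hcen
  obtain ⟨g, rfl⟩ := hsurj x
  have hcardV : Nat.card V = deg χ ^ 2 := by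
    have hker : (π.comp F.subtype).ker = Z.subgroupOf F := by
      ext y; simp [hπ, Subgroup.mem_subgroupOf, MonoidHom.mem_ker]
    have hrange : (π.comp F.subtype).range = V := by
      rw [MonoidHom.range_comp, Subgroup.range_subtype]
    have h := Subgroup.card_mul_index ((π.comp F.subtype).ker)
    rw [Subgroup.index_ker, hrange, hker,
      Nat.card_congr (Subgroup.subgroupOfEquivOfLe (inf_le_left : Z ≤ F)).toEquiv, ← hd,
      mul_comm] at h
    exact Nat.eq_of_mul_eq_mul_right Nat.card_pos h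
  rw [hcardV, Nat.pow_dvd_pow_iff two_ne_zero] at hx
  refine ⟨g, hx.trans ?_⟩
  have hle : (Subgroup.centralizer ({g} : Set G)).map π ≤ Subgroup.centralizer ({π g} : Set (G ⧸ Z)) := by
    rintro _ ⟨y, hy, rfl⟩
    rw [Subgroup.mem_centralizer_singleton_iff] at ⊢
    rw [← map_mul, ← map_mul, Subgroup.mem_centralizer_singleton_iff.mp hy]
  exact (Subgroup.index_dvd_of_le hle).trans (Subgroup.index_map_dvd _ hsurj)

end Cfsg.Agent.PrimClassSize
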