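import Cfsg.Agent.Lib.CT.PrimClassSize.Main

/-!
# Reduction to faithful characters
-/

set_option autoImplicit false
set_option linter.unusedSectionVars false
set_option linter.style.haveILetI false

namespace Cfsg.Agent.PrimClassSize

open Cfsg.Agent.CT

universe u

variable {G : Type u} [Group G] [Fintype G] {χ : G → ℂ}

/-- Primitive characters are quasi-primitive. -/
theorem qp_of_primitive (hχ : IsIrrCharacter G χ)
    (hprim : ¬ ∃ (H : Subgroup G), H ≠ ⊤ ∧ ∃ θ : ↥H → ℂ, Cfsg.IsCharacter ↥H θ ∧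
      Cfsg.indFun H θ = χ) : QuasiPrimAbove ⊥ χ := by
  classical
  intro X hX _
  haveI := Fintype.ofFinite X
  obtain ⟨φ, hφ⟩ := exists_constituent_restrict X hχ
  have hle := le_inertia X (isClassFunction_of_isIrr φ.2)
  haveI := Fintype.ofFinite (inertia X (φ : X → ℂ))
  obtain ⟨ψ, hψ, hind, -⟩ :=
    exists_correspondent X φ.2 (inertia X (φ : X → ℂ)) rfl hle hχ hφ
  have htop : inertia X (φ : X → ℂ) = ⊤ := by
    by_contra hne
    exact hprim ⟨_, hne, ψ, isCharacter_of_isIrr hψ, hind⟩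
  have hinv : ∀ g, conjFun X g (φ : X → ℂ) = φ := fun g =>
    (mem_inertia X).mp (htop ▸ Subgroup.mem_top g)
  have h := restrict_eq_smul_of_invariant X hχ φ.2 hφ hinv
  rw [mult_spec (isCharacter_restrict X (isCharacter_of_isIrr hχ)) (isCharacter_of_isIrr φ.2)] at h
  exact ⟨φ, _, φ.2, h⟩

/-- Quasi-primitivity passes to the quotient by a subgroup of the kernel. -/
theorem qp_quotient (hqp : QuasiPrimAbove ⊥ χ) (K : Subgroup G) [K.Normal]
    [Fintype (G ⧸ K)] {ψ : G ⧸ K → ℂ} (hψ : IsIrrCharacter (G ⧸ K) ψ)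
    (hψχ : ∀ g, ψ (QuotientGroup.mk g) = χ g) : QuasiPrimAbove ⊥ ψ := by
  classical
  intro Xb hXb _
  haveI := Fintype.ofFinite Xb
  set X := Xb.comap (QuotientGroup.mk' K) with hXdef
  haveI : X.Normal := Subgroup.Normal.comap hXb _
  haveI := Fintype.ofFinite X
  obtain ⟨φ, e, hφ, he⟩ := hqp X inferInstance bot_le
  obtain ⟨η, hη⟩ := exists_constituent_restrict Xb hψ
  let f : X →* Xb := (QuotientGroup.mk' K).subgroupComap Xb
  have hf : Function.Surjective f :=
    MonoidHom.subgroupComap_surjective_of_surjective _ Xb (QuotientGroup.mk'_surjective K)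
  have hres := isCharacter_restrict Xb (isCharacter_of_isIrr hψ)
  have hirr : ∀ μ : IrrCharacter Xb, IsIrrCharacter X (fun x => (μ : Xb → ℂ) (f x)) := fun μ =>
    isIrrCharacter_comp f hf μ.2
  have e1 : (fun x : X => χ x) = ∑ μ : IrrCharacter Xb,
      (mult (fun y : Xb => ψ y) (μ : Xb → ℂ) : ℂ) • fun x => (μ : Xb → ℂ) (f x) := by
    funext x
    have := congrFun (character_eq_sum hres) (f x)
    simp only [Finset.sum_apply, Pi.smul_apply] at this ⊢
    rw [← this]
    exact (hψχ x).symm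
  have h := congrArg (fun F => classInner F (fun x => (η : Xb → ℂ) (f x))) (e1.symm.trans he)
  simp only [classInner_sum_left, classInner_smul_left] at h
  rw [Finset.sum_eq_single η (fun μ _ hμ => by
      rw [irr_inner_of_ne (hirr μ) (hirr η) (fun c => hμ (Subtype.ext (funext fun y => by
        obtain ⟨x, rfl⟩ := hf y; exact congrFun c x))), mul_zero])
      (fun h => absurd (Finset.mem_univ _) h), irr_inner_self (hirr η), mul_one,
    ← mult_spec hres (isCharacter_of_isIrr η.2)] at h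
  have hφη : φ = fun x => (η : Xb → ℂ) (f x) :=
    eq_of_inner_ne_zero hφ (hirr η) fun h0 => hη (by rw [h, h0, mul_zero])
  refine ⟨η, e, η.2, funext fun y => ?_⟩
  obtain ⟨x, rfl⟩ := hf y
  have h2 := congrFun he x
  rw [hφη, ← hψχ] at h2
  exact h2

/-- A class size is divisible by the degree of a primitive character. -/
theorem exists_deg_dvd_of_primitive (hχ : IsIrrCharacter G χ)
    (hprim : ¬ ∃ (H : Subgroup G), H ≠ ⊤ ∧ ∃ θ : ↥H → ℂ, Cfsg.IsCharacter ↥H θ ∧
      Cfsg.indFun H θ = χ)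
    {p q : ℕ} [Fact p.Prime] [Fact q.Prime] (hpq : p ≠ q)
    (hfac : ∀ r : ℕ, r.Prime → r ∣ Nat.card G → r = p ∨ r = q)
    (F : Subgroup G) [F.Normal] [Group.IsNilpotent F] (hnil : Group.IsNilpotent (G ⧸ F)) :
    ∃ g : G, deg χ ∣ (Subgroup.centralizer ({g} : Set G)).index := by
  classical
  have hqp := qp_of_primitive hχ hprim
  have hχc := isCharacter_of_isIrr hχ
  set K := kerChar χ with hK
  haveI : K.Normal := ⟨fun x hx g => by
    rw [mem_kerChar_iff hχc] at hx ⊢
    rw [isClassFunction_of_isIrr hχ x g, hx]⟩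
  obtain ⟨ψ, hψ, hψχ⟩ := exists_quotient_irr hχ K fun n hn => (mem_kerChar_iff hχc).mp hn
  haveI := Fintype.ofFinite (G ⧸ K)
  have hfaith : ∀ x, ψ x = ψ 1 → x = 1 := by
    intro x hx
    obtain ⟨g, rfl⟩ := QuotientGroup.mk_surjective x
    refine (QuotientGroup.eq_one_iff g).mpr ((mem_kerChar_iff hχc).mpr ?_)
    rw [← hψχ g, hx, ← QuotientGroup.mk_one, hψχ]
  set π := QuotientGroup.mk' K with hπ
  haveI : (F.map π).Normal := Subgroup.Normal.map inferInstance _ (QuotientGroup.mk'_surjective K)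
  haveI : Group.IsNilpotent (F.map π) :=
    Group.nilpotent_of_surjective (π.subgroupMap F) (π.subgroupMap_surjective F)
  have hnil' : Group.IsNilpotent ((G ⧸ K) ⧸ F.map π) := by
    haveI := hnil
    refine Group.nilpotent_of_surjective (G := G ⧸ F)
      (QuotientGroup.lift F ((QuotientGroup.mk' (F.map π)).comp π) fun x hx => ?_) ?_
    · exact (QuotientGroup.eq_one_iff _).mpr ⟨x, hx, rfl⟩
    · intro y
      obtain ⟨z, rfl⟩ := QuotientGroup.mk'_surjective (F.map π) y
      obtain ⟨x, rfl⟩ := QuotientGroup.mk'_surjective K z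
      exact ⟨QuotientGroup.mk x, rfl⟩
  obtain ⟨x, hx⟩ := exists_deg_dvd hψ hfaith (qp_quotient hqp K hψ hψχ) hpq
    (fun r hr h => hfac r hr (h.trans (Subgroup.card_quotient_dvd_card K))) (F.map π) hnil'
  obtain ⟨g, rfl⟩ := QuotientGroup.mk'_surjective K x
  have hdeg : deg ψ = deg χ := by
    unfold deg
    rw [← QuotientGroup.mk_one, hψχ]
  rw [hdeg] at hx
  refine ⟨g, hx.trans ?_⟩
  have hle : (Subgroup.centralizer ({g} : Set G)).map π ≤
      Subgroup.centralizer ({π g} : Set (G ⧸ K)) := by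
    rintro _ ⟨y, hy, rfl⟩
    rw [Subgroup.mem_centralizer_singleton_iff, ← map_mul, ← map_mul,
      Subgroup.mem_centralizer_singleton_iff.mp hy]
  exact (Subgroup.index_dvd_of_le hle).trans
    (Subgroup.index_map_dvd _ (QuotientGroup.mk'_surjective K))

end Cfsg.Agent.PrimClassSize
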